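import Mathlib
import Cfsg.Prelude.Def_Classical

set_option autoImplicit false
set_option linter.constructorNameAsVariable false
set_option linter.unusedSectionVars false
open Cfsg

/-! Copy of the `SU_3(2)` toolkit of `Cfsg.Agent.S5908` (concrete field `F4`, transport `ofF4`,
the additive character `chi`), restated here so that `S0827` does not depend on the internals of
another statement file. -/

namespace Cfsg.Agent.Lib.Helper48.U32F4

inductive F4 | z | o | w | v
deriving DecidableEq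

namespace F4

instance : Fintype F4 := ⟨{z, o, w, v}, by intro x; cases x <;> decide⟩

def add : F4 → F4 → F4
  | z, x => x
  | x, z => x
  | o, o => z
  | o, w => v
  | o, v => w
  | w, o => v
  | w, w => z
  | w, v => o
  | v, o => w
  | v, w => o
  | v, v => z

def mul : F4 → F4 → F4
  | z, _ => z
  | _, z => z
  | o, x => x
  | x, o => x
  | w, w => v
  | w, v => o
  | v, w => o
  | v, v => w

def inv : F4 → F4
  | z => z
  | o => o
  | w => v
  | v => w

instance : Zero F4 := ⟨z⟩
instance : One F4 := ⟨o⟩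
instance : Add F4 := ⟨add⟩
instance : Mul F4 := ⟨mul⟩
instance : Neg F4 := ⟨id⟩
instance : Inv F4 := ⟨inv⟩

instance : CommRing F4 where
  add_assoc := by decide
  zero_add := by decide
  add_zero := by decide
  add_comm := by decide
  neg_add_cancel := by decide
  mul_assoc := by decide
  one_mul := by decide
  mul_one := by decide
  left_distrib := by decide
  right_distrib := by decide
  zero_mul := by decide
  mul_zero := by decide
  mul_comm := by decide
  nsmul := nsmulRec
  zsmul := zsmulRec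

instance : Field F4 where
  exists_pair_ne := ⟨z, o, by decide⟩
  mul_inv_cancel := by decide
  inv_zero := rfl
  nnqsmul := _
  qsmul := _

theorem card_F4 : Fintype.card F4 = 4 := rfl

/-- The Frobenius map of `F4`. -/
def frob : F4 →+* F4 where
  toFun x := x * x
  map_one' := by decide
  map_mul' := by decide
  map_zero' := by decide
  map_add' := by decide

end F4

open F4

set_option maxRecDepth 100000 in
set_option synthInstance.maxSize 2000 in
set_option synthInstance.maxHeartbeats 400000 in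
theorem LA : ∀ a d g : F4, a * (a * a) + d * (d * d) + g * (g * g) = 1 →
    ∀ b e h : F4, a * (b * b) + d * (e * e) + g * (h * h) = 0 →
      b * (b * b) + e * (e * e) + h * (h * h) = 1 →
    ∀ c f i : F4, a * (c * c) + d * (f * f) + g * (i * i) = 0 →
      b * (c * c) + e * (f * f) + h * (i * i) = 0 →
      c * (c * c) + f * (f * f) + i * (i * i) = 1 →
      a * e * i - a * f * h - b * d * i + b * f * g + c * d * h - c * e * g = 1 →
    ∀ x y t : F4, x * (x * x) + y * (y * y) + t * (t * t) = 1 →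
      (a * x + b * y + c * t) * (d * x + e * y + f * t) * (g * x + h * y + i * t) =
        a * d * g + x * y * t := by
  decide

set_option maxRecDepth 100000 in
set_option synthInstance.maxSize 2000 in
set_option synthInstance.maxHeartbeats 400000 in
theorem LB : ∀ a d g : F4, a * (a * a) + d * (d * d) + g * (g * g) = 1 →
    ∀ b e h : F4, a * (b * b) + d * (e * e) + g * (h * h) = 0 →
      b * (b * b) + e * (e * e) + h * (h * h) = 1 →
    ∀ c f i : F4, a * (c * c) + d * (f * f) + g * (i * i) = 0 →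
      b * (c * c) + e * (f * f) + h * (i * i) = 0 →
      c * (c * c) + f * (f * f) + i * (i * i) = 1 →
      a * e * i - a * f * h - b * d * i + b * f * g + c * d * h - c * e * g = 1 →
      a * b + b * e + c * h = 0 → a * c + b * f + c * i = 0 → d * a + e * d + f * g = 0 →
      d * c + e * f + f * i = 0 → g * a + h * d + i * g = 0 → g * b + h * e + i * h = 0 →
      a * d * g = 0 := by
  decide

def d0 : Matrix (Fin 3) (Fin 3) F4 := !![1, 0, 0; 0, w, 0; 0, 0, v]
def m0 : Matrix (Fin 3) (Fin 3) F4 := !![1, 1, v; 1, w, w; w, 1, w]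

theorem d0_unitary : d0.transpose * d0.map frob = 1 := by decide
theorem m0_unitary : m0.transpose * m0.map frob = 1 := by decide
theorem d0_det : d0.det = 1 := by rw [Matrix.det_fin_three]; decide
theorem m0_det : m0.det = 1 := by rw [Matrix.det_fin_three]; decide

section abstract

variable {F : Type*} [Field F]

open Matrix

theorem hermForm_eq_dot (φ : F →+* F) (hφ : ∀ x, φ x = x ^ 2) (x y : Fin 3 → F) :
    Cfsg.hermForm 3 F 2 x y = x ⬝ᵥ (φ ∘ y) := by
  unfold Cfsg.hermForm dotProduct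
  apply Finset.sum_congr rfl
  intro i _
  rw [Function.comp_apply, hφ]

theorem hermForm_mulVec_eq (φ : F →+* F) (hφ : ∀ x, φ x = x ^ 2)
    (M : Matrix (Fin 3) (Fin 3) F) (u v : Fin 3 → F) :
    Cfsg.hermForm 3 F 2 (M *ᵥ u) (M *ᵥ v) = u ⬝ᵥ ((Mᵀ * M.map φ) *ᵥ (φ ∘ v)) := by
  rw [hermForm_eq_dot φ hφ]
  have h1 : φ ∘ (M *ᵥ v) = M.map φ *ᵥ (φ ∘ v) := by
    funext i
    rw [Function.comp_apply, RingHom.map_mulVec]
  rw [h1, ← Matrix.mulVec_mulVec]
  calc (M *ᵥ u) ⬝ᵥ (M.map φ *ᵥ (φ ∘ v))
      = (u ᵥ* Mᵀ) ⬝ᵥ (M.map φ *ᵥ (φ ∘ v)) := by rw [Matrix.vecMul_transpose]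
    _ = u ⬝ᵥ (Mᵀ *ᵥ (M.map φ *ᵥ (φ ∘ v))) := by rw [← Matrix.dotProduct_mulVec]

theorem mem_SU_iff_mul (φ : F →+* F) (hφ : ∀ x, φ x = x ^ 2)
    (s : Matrix.SpecialLinearGroup (Fin 3) F) :
    s ∈ Cfsg.SU 3 F 2 ↔
      (s : Matrix (Fin 3) (Fin 3) F)ᵀ * (s : Matrix (Fin 3) (Fin 3) F).map φ = 1 := by
  have hmem : s ∈ Cfsg.SU 3 F 2 ↔ ∀ u v, Cfsg.hermForm 3 F 2
      ((s : Matrix (Fin 3) (Fin 3) F) *ᵥ u) ((s : Matrix (Fin 3) (Fin 3) F) *ᵥ v) =
        Cfsg.hermForm 3 F 2 u v := Iff.rfl
  rw [hmem]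
  constructor
  · intro hg
    ext a b
    have h := hg (Pi.single a 1) (Pi.single b 1)
    rw [hermForm_mulVec_eq φ hφ, hermForm_eq_dot φ hφ] at h
    have h2 : φ ∘ (Pi.single b (1 : F) : Fin 3 → F) = Pi.single b 1 := by
      funext i
      by_cases hi : i = b
      · subst hi; simp
      · simp [hi]
    rw [h2, Matrix.mulVec_single_one, single_one_dotProduct, single_one_dotProduct] at h
    rw [Matrix.one_apply]
    simpa [Pi.single_apply, eq_comm] using h
  · intro hg u v
    rw [hermForm_mulVec_eq φ hφ, hg, Matrix.one_mulVec, hermForm_eq_dot φ hφ]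

variable (σ : F ≃+* F4)

/-- The Frobenius of `F`, transported from `F4`. -/
def phi : F →+* F := (σ.symm : F4 →+* F).comp (frob.comp (σ : F →+* F4))

theorem phi_apply (x : F) : phi σ x = x ^ 2 := by
  show σ.symm ((σ x) * (σ x)) = x ^ 2
  rw [← map_mul, σ.symm_apply_apply, pow_two]

theorem phi_symm (y : F4) : phi σ (σ.symm y) = σ.symm (frob y) := by
  show σ.symm (frob (σ (σ.symm y))) = _
  rw [σ.apply_symm_apply]

theorem entriesF {M : Matrix (Fin 3) (Fin 3) F} (hM : Mᵀ * M.map (phi σ) = 1) (j k : Fin 3) :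
    M 0 j * (M 0 k * M 0 k) + M 1 j * (M 1 k * M 1 k) + M 2 j * (M 2 k * M 2 k) =
      if j = k then 1 else 0 := by
  have := congrFun (congrFun hM j) k
  rw [Matrix.mul_apply, Fin.sum_univ_three] at this
  simp only [Matrix.transpose_apply, Matrix.map_apply, phi_apply, Matrix.one_apply, pow_two] at this
  exact this

theorem entries {M : Matrix (Fin 3) (Fin 3) F} (hM : Mᵀ * M.map (phi σ) = 1) (j k : Fin 3) :
    σ (M 0 j) * (σ (M 0 k) * σ (M 0 k)) + σ (M 1 j) * (σ (M 1 k) * σ (M 1 k)) +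
      σ (M 2 j) * (σ (M 2 k) * σ (M 2 k)) = if j = k then 1 else 0 := by
  have := congrArg σ (entriesF σ hM j k)
  simp only [map_add, map_mul, apply_ite σ, map_one, map_zero] at this
  exact this

theorem detF4 {M : Matrix (Fin 3) (Fin 3) F} (hdet : M.det = 1) :
    σ (M 0 0) * σ (M 1 1) * σ (M 2 2) - σ (M 0 0) * σ (M 1 2) * σ (M 2 1)
      - σ (M 0 1) * σ (M 1 0) * σ (M 2 2) + σ (M 0 1) * σ (M 1 2) * σ (M 2 0)
      + σ (M 0 2) * σ (M 1 0) * σ (M 2 1) - σ (M 0 2) * σ (M 1 1) * σ (M 2 0) = 1 := by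
  rw [Matrix.det_fin_three] at hdet
  have := congrArg σ hdet
  simp only [map_add, map_sub, map_mul, map_one] at this
  exact this

theorem key_A {M : Matrix (Fin 3) (Fin 3) F} (hM : Mᵀ * M.map (phi σ) = 1) (hdet : M.det = 1)
    (x y t : F) (hn : x * (x * x) + y * (y * y) + t * (t * t) = 1) :
    (M 0 0 * x + M 0 1 * y + M 0 2 * t) * (M 1 0 * x + M 1 1 * y + M 1 2 * t) *
      (M 2 0 * x + M 2 1 * y + M 2 2 * t) = M 0 0 * M 1 0 * M 2 0 + x * y * t := by
  apply σ.injective
  simp only [map_add, map_mul]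
  have hn' := congrArg σ hn
  simp only [map_add, map_mul, map_one] at hn'
  exact LA _ _ _ (by simpa using entries σ hM 0 0) _ _ _ (by simpa using entries σ hM 0 1)
    (by simpa using entries σ hM 1 1) _ _ _ (by simpa using entries σ hM 0 2)
    (by simpa using entries σ hM 1 2) (by simpa using entries σ hM 2 2) (detF4 σ hdet) _ _ _ hn'

theorem key_B {M : Matrix (Fin 3) (Fin 3) F} (hM : Mᵀ * M.map (phi σ) = 1) (hdet : M.det = 1)
    (hoff : ∀ j k : Fin 3, j ≠ k → (M * M) j k = 0) : M 0 0 * M 1 0 * M 2 0 = 0 := by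
  apply σ.injective
  simp only [map_mul, map_zero]
  have off : ∀ j k : Fin 3, j ≠ k →
      σ (M j 0) * σ (M 0 k) + σ (M j 1) * σ (M 1 k) + σ (M j 2) * σ (M 2 k) = 0 := by
    intro j k hjk
    have := hoff j k hjk
    rw [Matrix.mul_apply, Fin.sum_univ_three] at this
    have := congrArg σ this
    simpa only [map_add, map_mul, map_zero] using this
  exact LB _ _ _ (by simpa using entries σ hM 0 0) _ _ _ (by simpa using entries σ hM 0 1)
    (by simpa using entries σ hM 1 1) _ _ _ (by simpa using entries σ hM 0 2)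
    (by simpa using entries σ hM 1 2) (by simpa using entries σ hM 2 2) (detF4 σ hdet)
    (off 0 1 (by decide)) (off 0 2 (by decide)) (off 1 0 (by decide)) (off 1 2 (by decide))
    (off 2 0 (by decide)) (off 2 1 (by decide))

end abstract


section group

variable {F : Type*} [Field F]

open Matrix

/-- The matrix of an element of `SU_3`. -/
def mat (s : Cfsg.SU 3 F 2) : Matrix (Fin 3) (Fin 3) F :=
  ((s : Matrix.SpecialLinearGroup (Fin 3) F) : Matrix (Fin 3) (Fin 3) F)

theorem mat_mul (s s' : Cfsg.SU 3 F 2) : mat (s * s') = mat s * mat s' := by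
  unfold mat
  rw [Subgroup.coe_mul, Matrix.SpecialLinearGroup.coe_mul]

theorem mat_det (s : Cfsg.SU 3 F 2) : (mat s).det = 1 := s.1.2

/-- The product of the entries of the first column. -/
def chi (s : Cfsg.SU 3 F 2) : F := mat s 0 0 * mat s 1 0 * mat s 2 0

theorem chi_one : chi (1 : Cfsg.SU 3 F 2) = 0 := by
  unfold chi mat
  simp

variable (σ : F ≃+* F4)
include σ

theorem mat_unitary (s : Cfsg.SU 3 F 2) : (mat s)ᵀ * (mat s).map (phi σ) = 1 :=
  (mem_SU_iff_mul (phi σ) (phi_apply σ) s.1).mp s.2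

theorem chi_mul (s s' : Cfsg.SU 3 F 2) : chi (s * s') = chi s + chi s' := by
  unfold chi
  rw [mat_mul]
  simp only [Matrix.mul_apply, Fin.sum_univ_three]
  have hn := entriesF σ (mat_unitary σ s') 0 0
  rw [if_pos rfl] at hn
  exact key_A σ (mat_unitary σ s) (mat_det s) _ _ _ hn

/-- `chi` as a homomorphism into the additive group of `F`. -/
def chiHom : Cfsg.SU 3 F 2 →* Multiplicative F where
  toFun s := Multiplicative.ofAdd (chi s)
  map_one' := by rw [chi_one]; rfl
  map_mul' s s' := by rw [chi_mul σ, ofAdd_add]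

/-- Elements of `SL_3(F)` from matrices over `F4`. -/
def slOfF4 (M' : Matrix (Fin 3) (Fin 3) F4) (h2 : M'.det = 1) :
    Matrix.SpecialLinearGroup (Fin 3) F :=
  ⟨M'.map (σ.symm : F4 →+* F), by
    have := RingHom.map_det (σ.symm : F4 →+* F) M'
    rw [RingHom.mapMatrix_apply, h2, map_one] at this
    exact this.symm⟩

theorem slOfF4_mem (M' : Matrix (Fin 3) (Fin 3) F4) (h1 : M'ᵀ * M'.map frob = 1)
    (h2 : M'.det = 1) : slOfF4 σ M' h2 ∈ Cfsg.SU 3 F 2 := by
  apply (mem_SU_iff_mul (phi σ) (phi_apply σ) _).mpr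
  show (M'.map (σ.symm : F4 →+* F))ᵀ * (M'.map (σ.symm : F4 →+* F)).map (phi σ) = 1
  have hp : (M'.map (σ.symm : F4 →+* F)).map (phi σ) =
      (M'.map frob).map (σ.symm : F4 →+* F) := by
    ext j k
    simp only [Matrix.map_apply, RingHom.coe_coe]
    exact phi_symm σ _
  rw [hp, ← Matrix.transpose_map]
  have := congrArg (fun A : Matrix (Fin 3) (Fin 3) F4 => A.map (σ.symm : F4 →+* F)) h1
  simp only [Matrix.map_mul] at this
  rw [Matrix.map_one _ (map_zero _) (map_one _)] at this
  exact this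

/-- Elements of `SU_3(F)` from unitary matrices over `F4`. -/
def ofF4 (M' : Matrix (Fin 3) (Fin 3) F4) (h1 : M'ᵀ * M'.map frob = 1) (h2 : M'.det = 1) :
    Cfsg.SU 3 F 2 :=
  ⟨slOfF4 σ M' h2, slOfF4_mem σ M' h1 h2⟩

theorem mat_ofF4 (M' : Matrix (Fin 3) (Fin 3) F4) (h1 : M'ᵀ * M'.map frob = 1) (h2 : M'.det = 1)
    (j k : Fin 3) : mat (ofF4 σ M' h1 h2) j k = σ.symm (M' j k) := rfl

theorem central_offdiag (zc : Cfsg.SU 3 F 2) (hz : zc ∈ Subgroup.center (Cfsg.SU 3 F 2))
    (j k : Fin 3) (hjk : j ≠ k) : mat zc j k = 0 := by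
  rw [Subgroup.mem_center_iff] at hz
  have h := congrArg mat (hz (ofF4 σ d0 d0_unitary d0_det))
  rw [mat_mul, mat_mul] at h
  have h' := congrFun (congrFun h j) k
  rw [Matrix.mul_apply, Matrix.mul_apply] at h'
  have hd : ∀ r s : Fin 3, r ≠ s → d0 r s = (0 : F4) := by
    intro r s; fin_cases r <;> fin_cases s <;> decide
  have hdd : ∀ r s : Fin 3, r ≠ s → d0 r r ≠ d0 s s := by decide
  rw [Finset.sum_eq_single j, Finset.sum_eq_single k] at h'
  · rw [mat_ofF4, mat_ofF4] at h'
    have h2 : (σ.symm (d0 j j) - σ.symm (d0 k k)) * mat zc j k = 0 := by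
      rw [sub_mul, h', mul_comm]; ring
    rcases mul_eq_zero.mp h2 with h3 | h3
    · exfalso
      rw [sub_eq_zero] at h3
      exact hdd j k hjk (σ.symm.injective h3)
    · exact h3
  · intro r _ hr
    rw [mat_ofF4, hd r k hr, map_zero, mul_zero]
  · intro h; exact absurd (Finset.mem_univ _) h
  · intro r _ hr
    rw [mat_ofF4, hd j r (Ne.symm hr), map_zero, zero_mul]
  · intro h; exact absurd (Finset.mem_univ _) h

theorem center_le_ker : Subgroup.center (Cfsg.SU 3 F 2) ≤ (chiHom σ).ker := by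
  intro zc hz
  rw [MonoidHom.mem_ker]
  show Multiplicative.ofAdd (chi zc) = 1
  unfold chi
  rw [central_offdiag σ zc hz 1 0 (by decide)]
  simp

theorem chi_eq_zero_of_sq_central (s : Cfsg.SU 3 F 2)
    (hs : s * s ∈ Subgroup.center (Cfsg.SU 3 F 2)) : chi s = 0 := by
  apply key_B σ (mat_unitary σ s) (mat_det s)
  intro j k hjk
  rw [← mat_mul]
  exact central_offdiag σ _ hs j k hjk

theorem add_self (a : F) : a + a = 0 := by
  apply σ.injective
  rw [map_add, map_zero]
  have : ∀ y : F4, y + y = 0 := by decide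
  exact this _

theorem chi_m0 : chi (ofF4 σ m0 m0_unitary m0_det) ≠ 0 := by
  unfold chi
  rw [mat_ofF4, mat_ofF4, mat_ofF4, ← map_mul, ← map_mul]
  have : m0 0 0 * m0 1 0 * m0 2 0 ≠ 0 := by decide
  intro h
  exact this (σ.symm.injective (h.trans (map_zero _).symm))

end group

end Cfsg.Agent.Lib.Helper48.U32F4
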