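import Mathlib
import Cfsg.Agent.Lib.Helper97.QuatRecog

set_option autoImplicit false

/-! Abstract group theory used for `PSU_3(2) = 3^2 : Q_8`. -/

namespace Cfsg.Agent.Lib.Helper48.U32

section quat

variable {Q : Type*} [Group Q]

/-- A group of order 8 with a subgroup `H` of order 2 containing all elements of square one
and all squares is the quaternion group. -/
theorem quat_of_small [Finite Q] (hcard : Nat.card Q = 8) (H : Subgroup Q) (hH : Nat.card H = 2)
    (h1 : ∀ x : Q, x * x = 1 → x ∈ H) (h2 : ∀ x : Q, x * x ∈ H) :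
    Nonempty (Q ≃* QuaternionGroup 2) := by
  classical
  -- the nontrivial element of H
  have hHne : H ≠ ⊥ := by
    intro h
    rw [h, Subgroup.card_bot] at hH
    omega
  obtain ⟨z, hzH, hz1⟩ : ∃ z : Q, z ∈ H ∧ z ≠ 1 := by
    obtain ⟨z, hz⟩ := (Subgroup.ne_bot_iff_exists_ne_one (H := H)).mp hHne
    exact ⟨(z : Q), z.2, fun h => hz (Subtype.ext h)⟩
  have hHz : ∀ x ∈ H, x = 1 ∨ x = z := by
    intro x hx
    by_contra hcon
    push_neg at hcon
    have : 2 < Nat.card H := by
      have hfin : Finite H := inferInstance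
      have := Fintype.ofFinite H
      rw [Nat.card_eq_fintype_card]
      have : ({⟨1, H.one_mem⟩, ⟨z, hzH⟩, ⟨x, hx⟩} : Finset H).card = 3 := by
        rw [Finset.card_insert_of_notMem, Finset.card_insert_of_notMem, Finset.card_singleton]
        · simp only [Finset.mem_singleton, Subtype.mk.injEq]
          exact fun h => hcon.2 h.symm
        · simp only [Finset.mem_insert, Finset.mem_singleton, Subtype.mk.injEq]
          rintro (h | h)
          · exact hz1 h.symm
          · exact hcon.1 h.symm
      calc 2 < 3 := by norm_num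
        _ = _ := this.symm
        _ ≤ Fintype.card H := Finset.card_le_univ _
    omega
  have hzz : z * z = 1 := by
    have := hHz (z * z) (H.mul_mem hzH hzH)
    rcases this with h | h
    · exact h
    · exfalso
      apply hz1
      have : z * z = z * 1 := by rw [h, mul_one]
      exact mul_left_cancel this
  -- elements outside H square to z
  have hsq : ∀ x : Q, x ∉ H → x * x = z := by
    intro x hx
    rcases hHz (x * x) (h2 x) with h | h
    · exact absurd (h1 x h) hx
    · exact h
  -- pick c outside H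
  obtain ⟨c, hc⟩ : ∃ c : Q, c ∉ H := by
    by_contra hcon
    push_neg at hcon
    have : H = ⊤ := by
      rw [eq_top_iff]; intro x _; exact hcon x
    rw [this, Subgroup.card_top, hcard] at hH
    omega
  have hcc : c * c = z := hsq c hc
  have hc4 : c ^ 4 = 1 := by
    have : c ^ 4 = (c * c) * (c * c) := by
      rw [show (4 : ℕ) = 2 + 2 from rfl, pow_add, pow_two]
    rw [this, hcc, hzz]
  have hc2 : c ^ 2 ≠ 1 := by
    rw [pow_two, hcc]; exact hz1
  have hord : orderOf c = 4 := by
    have hdvd : orderOf c ∣ 2 ^ 2 := orderOf_dvd_of_pow_eq_one (by simpa using hc4)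
    obtain ⟨k, hk, hk2⟩ := (Nat.dvd_prime_pow Nat.prime_two).mp hdvd
    interval_cases k
    · exfalso
      have : c = 1 := by
        rw [← orderOf_eq_one_iff]; simpa using hk2
      apply hc; rw [this]; exact H.one_mem
    · exfalso
      apply hc2
      have := pow_orderOf_eq_one c
      rw [hk2] at this
      simpa using this
    · simpa using hk2
  have hHle : H ≤ Subgroup.zpowers c := by
    intro x hx
    rcases hHz x hx with h | h
    · rw [h]; exact Subgroup.one_mem _
    · rw [h, ← hcc, ← pow_two]; exact Subgroup.pow_mem _ (Subgroup.mem_zpowers c) 2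
  obtain ⟨b, hb⟩ : ∃ b : Q, b ∉ Subgroup.zpowers c := by
    by_contra hcon
    push_neg at hcon
    have : Subgroup.zpowers c = ⊤ := by
      rw [eq_top_iff]; intro x _; exact hcon x
    have h3 := Nat.card_zpowers c
    rw [this, Subgroup.card_top, hcard, hord] at h3
    omega
  have hbH : b ∉ H := fun h => hb (hHle h)
  have hbb : b * b = z := hsq b hbH
  have hbc : b * c ∉ H := by
    intro h
    apply hb
    have : b = (b * c) * c⁻¹ := by group
    rw [this]
    exact Subgroup.mul_mem _ (hHle h) (Subgroup.inv_mem _ (Subgroup.mem_zpowers c))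
  have hbcbc : (b * c) * (b * c) = z := hsq _ hbc
  have hconj : b * c * b⁻¹ = c⁻¹ := by
    have h3 : c * b * c = b := by
      have : b * (c * b * c) = b * b := by
        rw [hbb, ← hbcbc]; group
      exact mul_left_cancel this
    have h4 : b * c = c⁻¹ * b := by
      rw [eq_inv_mul_iff_mul_eq, ← mul_assoc]; exact h3
    rw [h4]; group
  exact Cfsg.Agent.Lib.Helper97.nonempty_mulEquiv_quaternion 2 c b (by rw [hcard])
    (by rw [hord]) (by rw [hbb, pow_two, hcc]) hconj hb

end quat

section main

variable {G : Type*} [Group G]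

/-- A normal subgroup of order 18 contains a subgroup of order 9 normal in the whole group. -/
theorem exists_normal_nine [Finite G] (K : Subgroup G) [K.Normal] (hK : Nat.card K = 18) :
    ∃ N : Subgroup G, N.Normal ∧ Nat.card N = 9 ∧ N ≤ K := by
  haveI : Fact (Nat.Prime 3) := ⟨Nat.prime_three⟩
  obtain ⟨P⟩ : Nonempty (Sylow 3 K) := inferInstance
  have hPcard : Nat.card P = 9 := by
    rw [Sylow.card_eq_multiplicity, hK]
    have : (18 : ℕ).factorization 3 = 2 := by
      rw [show (18 : ℕ) = 2 * 3 ^ 2 from rfl, Nat.factorization_mul (by norm_num) (by norm_num),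
        Nat.factorization_pow]
      simp [Nat.factorization_eq_zero_of_not_dvd, Nat.prime_three.factorization_self]
    rw [this]; norm_num
  have hidx : (P : Subgroup K).index = 2 := by
    have := Subgroup.card_mul_index (P : Subgroup K)
    rw [hPcard, hK] at this
    omega
  have h1 : Nat.card (Sylow 3 K) ∣ 2 := by
    rw [← hidx]; exact Sylow.card_dvd_index P
  have h2 : Nat.card (Sylow 3 K) ≡ 1 [MOD 3] := card_sylow_modEq_one 3 K
  have h3 : Nat.card (Sylow 3 K) = 1 := by
    rcases (Nat.dvd_prime Nat.prime_two).mp h1 with h | h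
    · exact h
    · rw [h] at h2; exact absurd h2 (by decide)
  haveI : Subsingleton (Sylow 3 K) := (Nat.card_eq_one_iff_unique.mp h3).1
  haveI : (P : Subgroup K).Characteristic := Sylow.characteristic_of_subsingleton P
  refine ⟨(P : Subgroup K).map K.subtype, inferInstance, ?_, ?_⟩
  · rw [Subgroup.card_map_of_injective K.subtype_injective, hPcard]
  · exact Subgroup.map_subtype_le _

/-- Elements of order dividing 3 lie in a normal subgroup of order 9 and index 8. -/
theorem mem_of_pow_three [Finite G] (hG : Nat.card G = 72) (N : Subgroup G) [N.Normal]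
    (hN : Nat.card N = 9) (x : G) (hx : x ^ 3 = 1) : x ∈ N := by
  have hq : Nat.card (G ⧸ N) = 8 := by
    have := Subgroup.card_eq_card_quotient_mul_card_subgroup N
    rw [hG, hN] at this
    omega
  rw [← QuotientGroup.eq_one_iff]
  have h8 : (x : G ⧸ N) ^ 8 = 1 := by
    rw [← hq]; exact pow_card_eq_one'
  have h3 : (x : G ⧸ N) ^ 3 = 1 := by
    rw [← QuotientGroup.mk_pow, hx]; rfl
  have h9 : (x : G ⧸ N) ^ 9 = 1 := by
    rw [show (9 : ℕ) = 3 * 3 from rfl, pow_mul, h3, one_pow]
  have : (x : G ⧸ N) ^ 9 = (x : G ⧸ N) ^ 8 * (x : G ⧸ N) := by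
    rw [← pow_succ]
  rw [h9, h8, one_mul] at this
  exact this.symm

/-- A group of order 9 with two independent elements of order 3 has exponent 3. -/
theorem exp_three [Finite G] (N : Subgroup G) (hN : Nat.card N = 9) (a b : G) (ha : a ∈ N)
    (hb : b ∈ N) (ha3 : a ^ 3 = 1) (hb3 : b ^ 3 = 1) (ha1 : a ≠ 1)
    (hab : b ∉ Subgroup.zpowers a) : ∀ x ∈ N, x ^ 3 = 1 := by
  haveI : Fact (Nat.Prime 3) := ⟨Nat.prime_three⟩
  have hcomm : ∀ x y : N, x * y = y * x :=
    IsPGroup.commutative_of_card_eq_prime_sq (p := 3) (by rw [hN]; norm_num)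
  let T : Subgroup G :=
    { carrier := {x | x ∈ N ∧ x ^ 3 = 1}
      one_mem' := ⟨N.one_mem, one_pow 3⟩
      mul_mem' := by
        rintro x y ⟨hx, hx3⟩ ⟨hy, hy3⟩
        refine ⟨N.mul_mem hx hy, ?_⟩
        have hc : Commute x y := by
          have := hcomm ⟨x, hx⟩ ⟨y, hy⟩
          exact congrArg Subtype.val this
        rw [hc.mul_pow, hx3, hy3, one_mul]
      inv_mem' := by
        rintro x ⟨hx, hx3⟩
        exact ⟨N.inv_mem hx, by rw [inv_pow, hx3, inv_one]⟩ }
  have hTN : T ≤ N := fun x hx => hx.1
  have haT : a ∈ T := ⟨ha, ha3⟩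
  have hbT : b ∈ T := ⟨hb, hb3⟩
  have hza : Subgroup.zpowers a ≤ T := by
    rw [Subgroup.zpowers_le]; exact haT
  have hord : orderOf a = 3 := by
    have := orderOf_dvd_of_pow_eq_one ha3
    rcases (Nat.dvd_prime Nat.prime_three).mp this with h | h
    · exact absurd (orderOf_eq_one_iff.mp h) ha1
    · exact h
  have hlt : Subgroup.zpowers a < T := lt_of_le_of_ne hza (fun h => hab (h ▸ hbT))
  have hcz : Nat.card (Subgroup.zpowers a) = 3 := by rw [Nat.card_zpowers, hord]
  have hTdvd : Nat.card T ∣ 9 := hN ▸ Subgroup.card_dvd_of_le hTN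
  have hTgt : 3 < Nat.card T := by
    have h1 := Subgroup.card_dvd_of_le hza
    rw [hcz] at h1
    have h2 : Nat.card (Subgroup.zpowers a) ≠ Nat.card T := by
      intro h
      exact absurd (Subgroup.eq_of_le_of_card_ge hza h.symm.le) hlt.ne
    rw [hcz] at h2
    have h3 : 0 < Nat.card T := Nat.card_pos
    obtain ⟨k, hk⟩ := h1
    rcases Nat.lt_or_ge k 2 with h | h
    · interval_cases k <;> omega
    · omega
  have hT9 : Nat.card T = 9 := by
    have : Nat.card T ∈ (9 : ℕ).divisors := Nat.mem_divisors.mpr ⟨hTdvd, by norm_num⟩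
    have hdiv : (9 : ℕ).divisors = {1, 3, 9} := by decide
    rw [hdiv] at this
    simp only [Finset.mem_insert, Finset.mem_singleton] at this
    omega
  have hTeq : T = N := Subgroup.eq_of_le_of_card_ge hTN (by rw [hT9, hN])
  intro x hx
  rw [← hTeq] at hx
  exact hx.2

theorem main_abstract [Finite G] {A : Type*} [Group A] (hA : Nat.card A = 4)
    (hA2 : ∀ y : A, y * y = 1) (χ : G →* A) (hχ : Function.Surjective χ)
    (hcard : Nat.card G = 72) (hinv : ∀ x : G, x * x = 1 → χ x = 1)
    (a b : G) (ha : a ^ 3 = 1) (hb : b ^ 3 = 1) (ha1 : a ≠ 1) (hb1 : b ≠ 1) (hba : b ≠ a)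
    (hba2 : b ≠ a ^ 2) :
    ∃ (N : Subgroup G) (_ : N.Normal), Nat.card N = 9 ∧ (∀ x ∈ N, x ^ 3 = 1) ∧
      Nonempty (G ⧸ N ≃* QuaternionGroup 2) := by
  have hK : Nat.card χ.ker = 18 := by
    have h1 := Subgroup.card_mul_index χ.ker
    rw [Subgroup.index_ker, MonoidHom.range_eq_top.mpr hχ, Subgroup.card_top, hA, hcard] at h1
    omega
  obtain ⟨N, hNn, hN9, hNK⟩ := exists_normal_nine χ.ker hK
  refine ⟨N, hNn, hN9, ?_, ?_⟩
  · have hab : b ∉ Subgroup.zpowers a := by
      intro h
      obtain ⟨k, hk⟩ := Subgroup.mem_zpowers_iff.mp h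
      have h3 : a ^ k = a ^ (k % 3) := by
        conv_lhs => rw [← Int.mul_ediv_add_emod k 3]
        rw [zpow_add, zpow_mul]
        have : a ^ (3 : ℤ) = 1 := by
          rw [show (3 : ℤ) = ((3 : ℕ) : ℤ) from rfl, zpow_natCast, ha]
        rw [this, one_zpow, one_mul]
      rw [h3] at hk
      have h4 : 0 ≤ k % 3 := Int.emod_nonneg k (by norm_num)
      have h5 : k % 3 < 3 := Int.emod_lt_of_pos k (by norm_num)
      obtain ⟨m, hm⟩ : ∃ m : ℕ, k % 3 = m := ⟨(k % 3).toNat, (Int.toNat_of_nonneg h4).symm⟩
      rw [hm, zpow_natCast] at hk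
      have hm3 : m < 3 := by omega
      interval_cases m
      · exact hb1 (by simpa using hk.symm)
      · exact hba (by simpa using hk.symm)
      · exact hba2 hk.symm
    exact exp_three N hN9 a b (mem_of_pow_three hcard N hN9 a ha)
      (mem_of_pow_three hcard N hN9 b hb) ha hb ha1 hab
  · have hq : Nat.card (G ⧸ N) = 8 := by
      have := Subgroup.card_eq_card_quotient_mul_card_subgroup N
      rw [hcard, hN9] at this
      omega
    let χq : G ⧸ N →* A := QuotientGroup.lift N χ hNK
    have hχq : Function.Surjective χq := by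
      intro y
      obtain ⟨x, hx⟩ := hχ y
      exact ⟨(x : G ⧸ N), hx⟩
    have hH : Nat.card χq.ker = 2 := by
      have h1 := Subgroup.card_mul_index χq.ker
      rw [Subgroup.index_ker, MonoidHom.range_eq_top.mpr hχq, Subgroup.card_top, hA, hq] at h1
      omega
    refine quat_of_small hq χq.ker hH ?_ ?_
    · intro x hx
      induction x using QuotientGroup.induction_on with
      | H x =>
        rw [MonoidHom.mem_ker]
        show χ x = 1
        rw [← QuotientGroup.mk_mul, QuotientGroup.eq_one_iff] at hx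
        have h9 : (x * x) ^ 9 = 1 := by
          have : (⟨x * x, hx⟩ : N) ^ 9 = 1 := by
            rw [← hN9]; exact pow_card_eq_one'
          exact congrArg Subtype.val this
        have hy : (x ^ 9) * (x ^ 9) = 1 := by
          rw [← pow_add, show 9 + 9 = 2 * 9 from rfl, pow_mul, pow_two]; exact h9
        have h1 := hinv _ hy
        rw [map_pow] at h1
        have h2 : χ x ^ 9 = χ x := by
          have : χ x ^ 2 = 1 := by rw [pow_two]; exact hA2 _
          rw [show (9 : ℕ) = 2 * 4 + 1 from rfl, pow_succ, pow_mul, this, one_pow, one_mul]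
        rw [← h2]; exact h1
    · intro x
      rw [MonoidHom.mem_ker, map_mul]
      exact hA2 _

end main

end Cfsg.Agent.Lib.Helper48.U32
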